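import Mathlib
import Cfsg.Prelude.Def_Spor_HN

/-!
# S4908, FROB row of HN: the size condition (helper388)

`T` is a proper subgroup of `HN` with an element `q` of order `9` (`|C(q)| = 27`, `|C(q ^ 3)| = 29160`), `19 ∤ |T|`.
`Bd T` : the bound of the order of `T` which gives `2 |T| k(T) ≤ |HN|`.
`Fit T` : `T` has no abelian normal subgroup.
-/

set_option autoImplicit false

namespace Cfsg.Agent.H388.HNF

/-- the size condition -/
def Bd (T : Subgroup Cfsg.Spor.HN) : Prop :=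
  Nat.card T ≤ 103900000 ∨ (7 ∣ Nat.card T ∧ Nat.card T ≤ 679000000) ∨
    (7 ∣ Nat.card T ∧ Nat.card T ≤ 1150000000 ∧ ∃ z ∈ T, orderOf z = 4) ∨
    (11 ∣ Nat.card T ∧ Nat.card T ≤ 1020000000) ∨ (77 ∣ Nat.card T ∧ Nat.card T ≤ 3660000000) ∨
    (7 ∣ Nat.card T ∧ ¬ 3 ^ 6 ∣ Nat.card T ∧ Nat.card T ≤ 700000000)

/-- no abelian normal subgroup -/
def Fit (T : Subgroup Cfsg.Spor.HN) : Prop :=
  ∀ V : Subgroup Cfsg.Spor.HN, V ≤ T → (∀ g ∈ T, ∀ v ∈ V, g * v * g⁻¹ ∈ V) → (∀ a ∈ V, ∀ b ∈ V, a * b = b * a) → V = ⊥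

end Cfsg.Agent.H388.HNF
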