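import Cfsg.Agent.H388.HNF.Abs
import Cfsg.Agent.H388.HNF.Defs

/-!
# S4908, FROB row of HN: the case of an abelian normal subgroup (helper388)
-/

set_option autoImplicit false

namespace Cfsg.Agent.H388.HNF

open Subgroup

/-- the facts about a group of the order of `HN` -/
structure Fx (G : Type) [Group G] [Finite G] : Prop where
  card : Nat.card G = 273030912000000
  c2 : ∀ u : G, orderOf u = 2 → Nat.card (centralizer ({u} : Set G)) = 177408000 ∨
    Nat.card (centralizer ({u} : Set G)) = 3686400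
  c3 : ∀ u : G, orderOf u = 3 → Nat.card (centralizer ({u} : Set G)) = 544320 ∨
    Nat.card (centralizer ({u} : Set G)) = 29160
  c7 : ∀ u : G, orderOf u = 7 → Nat.card (centralizer ({u} : Set G)) = 420
  c11 : ∀ u : G, orderOf u = 11 → Nat.card (centralizer ({u} : Set G)) = 22
  c9 : ∀ u : G, orderOf u = 9 → Nat.card (centralizer ({u ^ 3} : Set G)) = 29160 ∧
    Nat.card (centralizer ({u} : Set G)) = 27
  o25 : ∃ g : G, orderOf g = 25
  no64 : ∀ (w : G), orderOf w = 5 → ∀ E : Subgroup G, Nat.card E = 64 → (∀ x ∈ E, x * x = 1) →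
    (∀ x ∈ E, x * w = w * x) → False
  no4096 : ∀ E : Subgroup G, 4096 ∣ Nat.card E → (∀ x ∈ E, x * x = 1) → False

/-- the size condition, as a number -/
def BdN {G : Type} [Group G] (T : Subgroup G) : Prop :=
  Nat.card T ≤ 103900000 ∨ (7 ∣ Nat.card T ∧ Nat.card T ≤ 679000000) ∨
    (11 ∣ Nat.card T ∧ Nat.card T ≤ 1020000000) ∨
    (7 ∣ Nat.card T ∧ ¬ 3 ^ 6 ∣ Nat.card T ∧ Nat.card T ≤ 700000000)

/-! ### numbers -/

theorem red {p A j k n : ℕ} (hp : p.Prime) (hn : n ∣ A * p ^ k) (hn0 : n ≠ 0) (h : ¬ p ^ (j + 1) ∣ n) : n ∣ A * p ^ j := by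
  obtain ⟨e, m, hm, rfl⟩ := Nat.exists_eq_pow_mul_and_not_dvd hn0 p hp.ne_one
  have he : e ≤ j := by
    by_contra hlt
    push Not at hlt
    exact h (dvd_mul_of_dvd_left (pow_dvd_pow p hlt) m)
  have h1 : m ∣ A := by
    refine Nat.Coprime.dvd_of_dvd_mul_right ?_ ((Dvd.intro_left _ rfl).trans hn)
    exact Nat.Coprime.pow_right _ ((Nat.Prime.coprime_iff_not_dvd hp).2 hm).symm
  rw [mul_comm]
  exact mul_dvd_mul h1 (pow_dvd_pow p he)

section G

variable {G : Type} [Group G] [Finite G]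

/-! ### elementary abelian normal subgroups -/

theorem exists_elem {T : Subgroup G} {V : Subgroup G} (hVT : V ≤ T) (hN : ∀ g ∈ T, ∀ v ∈ V, g * v * g⁻¹ ∈ V)
    (hab : ∀ a ∈ V, ∀ b ∈ V, a * b = b * a) (hne : V ≠ ⊥) :
    ∃ (p : ℕ) (W : Subgroup G), p.Prime ∧ W ≤ T ∧ (∀ g ∈ T, ∀ v ∈ W, g * v * g⁻¹ ∈ W) ∧
      (∀ a ∈ W, ∀ b ∈ W, a * b = b * a) ∧ W ≠ ⊥ ∧ ∀ x ∈ W, x ^ p = 1 := by
  have h1 : Nat.card V ≠ 1 := fun h => hne (card_eq_one.1 h)
  obtain ⟨p, hp, hd⟩ := Nat.exists_prime_and_dvd h1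
  have := Fact.mk hp
  obtain ⟨x, hx⟩ := exists_prime_orderOf_dvd_card' p hd
  let W : Subgroup G :=
    { carrier := {v | v ∈ V ∧ v ^ p = 1}
      one_mem' := ⟨V.one_mem, one_pow p⟩
      mul_mem' := by
        rintro a b ⟨ha, ha'⟩ ⟨hb, hb'⟩
        refine ⟨V.mul_mem ha hb, ?_⟩
        rw [(show Commute a b from hab a ha b hb).mul_pow, ha', hb', one_mul]
      inv_mem' := by
        rintro a ⟨ha, ha'⟩
        exact ⟨V.inv_mem ha, by rw [inv_pow, ha', inv_one]⟩ }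
  refine ⟨p, W, hp, fun v hv => hVT hv.1, fun g hg v hv => ⟨hN g hg v hv.1, ?_⟩, fun a ha b hb => hab a ha.1 b hb.1, ?_,
    fun v hv => hv.2⟩
  · rw [conj_pow, hv.2, mul_one, mul_inv_cancel]
  · intro h
    have h2 : (x : G) ∈ W := ⟨x.2, by
      have h3 : x ^ p = 1 := by rw [← hx]; exact pow_orderOf_eq_one x
      have h4 := congrArg Subtype.val h3
      simpa using h4⟩
    rw [h, mem_bot] at h2
    have h3 : x = 1 := Subtype.ext h2
    rw [h3, orderOf_one] at hx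
    exact hp.one_lt.ne hx

theorem card_pow {p : ℕ} (hp : p.Prime) {V : Subgroup G} (hV : ∀ x ∈ V, x ^ p = 1) : ∃ v : ℕ, Nat.card V = p ^ v := by
  have := Fact.mk hp
  have h : IsPGroup p V := fun x => ⟨1, Subtype.ext (by rw [pow_one]; exact_mod_cast hV x x.2)⟩
  exact (IsPGroup.iff_card).1 h

/-- the number of points fixed by `q ^ 3` -/
theorem fixed_data (F : Fx G) {q : G} (hq : orderOf q = 9) {p v : ℕ} (hp : p.Prime) (hp3 : p ≠ 3) {V : Subgroup G}
    (hV : ∀ x ∈ V, q * x * q⁻¹ ∈ V) (hc : Nat.card V = p ^ v) :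
    ∃ c : ℕ, c ∣ p ^ v ∧ c ∣ 29160 ∧ c % 3 = 1 ∧ p ^ v % 9 = c % 9 := by
  obtain ⟨h3, h9⟩ := F.c9 q hq
  obtain ⟨k, hk⟩ := card_split hq hV
  set C := V ⊓ centralizer ({q ^ 3} : Set G) with hC
  refine ⟨Nat.card C, ?_, ?_, ?_, ?_⟩
  · rw [← hc]; exact card_dvd_of_le inf_le_left
  · rw [← h3]; exact card_dvd_of_le inf_le_right
  · have hbot : V ⊓ centralizer ({q} : Set G) = ⊥ := by
      rw [← card_eq_one]
      have h1 : Nat.card ↥(V ⊓ centralizer ({q} : Set G)) ∣ p ^ v := by rw [← hc]; exact card_dvd_of_le inf_le_left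
      have h2 : Nat.card ↥(V ⊓ centralizer ({q} : Set G)) ∣ 3 ^ 3 := by
        have : Nat.card ↥(V ⊓ centralizer ({q} : Set G)) ∣ 27 := by rw [← h9]; exact card_dvd_of_le inf_le_right
        exact this
      exact Nat.dvd_one.1 (Nat.Coprime.dvd_of_dvd_mul_left (k := Nat.card ↥(V ⊓ centralizer ({q} : Set G))) (m := 1)
        (n := 1) (Nat.coprime_one_right _) (by
          have h4 : Nat.Coprime (p ^ v) (3 ^ 3) := Nat.Coprime.pow _ _ ((Nat.coprime_primes hp Nat.prime_three).2 hp3)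
          have h5 := Nat.dvd_gcd h1 h2
          rw [h4] at h5
          simpa using h5))
    refine card_mod (q := q) (n := 2) (by rw [hq]; norm_num) (V := C) ?_ ?_
    · rintro x ⟨hx1, hx2⟩
      refine ⟨hV x hx1, mem_centralizer_singleton_iff.2 ?_⟩
      have hx2 := mem_centralizer_singleton_iff.1 hx2
      have e1 : q * x * q⁻¹ * q ^ 3 = q * (x * q ^ 3) * q⁻¹ := by group
      have e2 : q ^ 3 * (q * x * q⁻¹) = q * (q ^ 3 * x) * q⁻¹ := by group
      rw [e1, e2, hx2]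
    · rw [eq_bot_iff, ← hbot]
      exact fun x hx => ⟨hx.1.1, hx.2⟩
  · rw [← hc, hk]
    omega

/-! ### the action on an elementary abelian 2-subgroup -/

theorem aut_split {T V : Subgroup G} (hVT : V ≤ T) (hN : ∀ g ∈ T, ∀ v ∈ V, g * v * g⁻¹ ∈ V)
    (hab : ∀ a ∈ V, ∀ b ∈ V, a * b = b * a) {v : ℕ} (h2 : ∀ x ∈ V, x ^ 2 = 1) (hc : Nat.card V = 2 ^ v) :
    ∃ a b : ℕ, Nat.card T = a * b ∧ a ∣ Nat.card (Matrix.GeneralLinearGroup (Fin v) (ZMod 2)) ∧
      ∀ p : ℕ, p.Prime → p ∣ b → ∃ t ∈ T, orderOf t = p ∧ ∀ x ∈ V, x * t = t * x := by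
  have hnorm : (V.subgroupOf T).Normal := ⟨fun x hx g => hN g g.2 x hx⟩
  let _ : CommGroup (V.subgroupOf T) :=
    { (inferInstance : Group (V.subgroupOf T)) with
      mul_comm := fun a b => Subtype.ext (Subtype.ext (hab _ a.2 _ b.2)) }
  have hcV : Nat.card (V.subgroupOf T) = 2 ^ v := by
    rw [← hc]
    exact Nat.card_congr (subgroupOfEquivOfLe hVT).toEquiv
  have hpow : ∀ x : V.subgroupOf T, x ^ 2 = 1 := fun x => Subtype.ext (Subtype.ext (h2 _ x.2))
  obtain ⟨e⟩ := Cfsg.Agent.Lib.ElemAbGL.mulAut_equiv_GL 2 v hpow hcV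
  let φ : T →* MulAut (V.subgroupOf T) := MulAut.conjNormal
  refine ⟨Nat.card φ.range, Nat.card φ.ker, ?_, ?_, ?_⟩
  · rw [mul_comm, ← index_ker, card_mul_index]
  · rw [← Nat.card_congr e.toEquiv]
    exact card_subgroup_dvd_card φ.range
  · intro p hp hd
    have := Fact.mk hp
    obtain ⟨t, ht⟩ := exists_prime_orderOf_dvd_card' p hd
    refine ⟨(t : T), (t : T).2, ?_, ?_⟩
    · rw [Subgroup.orderOf_coe, Subgroup.orderOf_coe, ht]
    · intro x hx
      have h3 := congrArg (fun f : MulAut (V.subgroupOf T) => ((f ⟨⟨x, hVT hx⟩, hx⟩ : V.subgroupOf T) : T)) t.2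
      have h4 : ((t : T) : G) * x * ((t : T) : G)⁻¹ = x := congrArg Subtype.val h3
      rw [mul_inv_eq_iff_eq_mul] at h4
      exact h4.symm

theorem card_GL6 : Nat.card (Matrix.GeneralLinearGroup (Fin 6) (ZMod 2)) = 20158709760 := by
  rw [Matrix.card_GL_field, ZMod.card]
  simp [Fin.prod_univ_succ]

theorem card_GL8 : Nat.card (Matrix.GeneralLinearGroup (Fin 8) (ZMod 2)) = 5348063769211699200 := by
  rw [Matrix.card_GL_field, ZMod.card]
  simp [Fin.prod_univ_succ]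

omit [Finite G] in
theorem dvd_cent {V : Subgroup G} {t : G} (h : ∀ x ∈ V, x * t = t * x) :
    Nat.card V ∣ Nat.card (centralizer ({t} : Set G)) :=
  card_dvd_of_le fun x hx => mem_centralizer_singleton_iff.2 (h x hx)

theorem case_six (F : Fx G) {T V : Subgroup G} (h19 : ¬ 19 ∣ Nat.card T) (hVT : V ≤ T)
    (hN : ∀ g ∈ T, ∀ v ∈ V, g * v * g⁻¹ ∈ V) (hab : ∀ a ∈ V, ∀ b ∈ V, a * b = b * a) (h2 : ∀ x ∈ V, x ^ 2 = 1)
    (hc : Nat.card V = 2 ^ 6) : BdN T := by
  obtain ⟨a, b, e1, e2, e3⟩ := aut_split hVT hN hab h2 hc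
  rw [card_GL6] at e2
  have h5 : ¬ 5 ∣ b := fun h => by
    obtain ⟨t, -, ht, h⟩ := e3 5 (by norm_num) h
    exact F.no64 t ht V (by rw [hc]; norm_num) (fun x hx => by rw [← pow_two]; exact h2 x hx) h
  have h11 : ¬ 11 ∣ b := fun h => by
    obtain ⟨t, -, ht, h⟩ := e3 11 (by norm_num) h
    have h4 := dvd_cent h
    rw [hc, F.c11 t ht] at h4
    norm_num at h4
  have hT0 : Nat.card T ≠ 0 := Nat.card_pos.ne'
  have hT11 : ¬ 11 ^ (0 + 1) ∣ Nat.card T := fun h => by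
    rw [e1, zero_add, pow_one] at h
    rcases (Nat.Prime.dvd_mul (by norm_num)).1 h with h | h
    · exact absurd (h.trans e2) (by norm_num)
    · exact h11 h
  have hT5 : ¬ 5 ^ (1 + 1) ∣ Nat.card T := fun h => by
    rw [e1] at h
    have h4 : 5 ^ (1 + 1) ∣ a := Nat.Coprime.dvd_of_dvd_mul_right
      (Nat.Coprime.pow_left _ ((Nat.Prime.coprime_iff_not_dvd (by norm_num)).2 h5)) h
    exact absurd (h4.trans e2) (by norm_num)
  have d0 : Nat.card T ∣ (2 ^ 14 * 3 ^ 6 * 5 ^ 6 * 7 * 11) * 19 ^ 1 := by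
    have := card_subgroup_dvd_card T
    rw [F.card] at this
    exact this.trans (by norm_num)
  have d1 := red (j := 0) (by norm_num : Nat.Prime 19) d0 hT0 (by simpa using h19)
  have d2 := red (A := 2 ^ 14 * 3 ^ 6 * 5 ^ 6 * 7) (j := 0) (k := 1) (by norm_num : Nat.Prime 11) (d1.trans (by norm_num)) hT0 hT11
  have d3 := red (A := 2 ^ 14 * 3 ^ 6 * 7) (j := 1) (k := 6) (by norm_num : Nat.Prime 5) (d2.trans (by norm_num)) hT0 hT5
  by_cases h7 : 7 ∣ Nat.card T
  · exact Or.inr (Or.inl ⟨h7, (Nat.le_of_dvd (by norm_num) d3).trans (by norm_num)⟩)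
  · have d4 := red (A := 2 ^ 14 * 3 ^ 6 * 5) (j := 0) (k := 1) (by norm_num : Nat.Prime 7) (d3.trans (by norm_num)) hT0
      (by simpa using h7)
    exact Or.inl ((Nat.le_of_dvd (by norm_num) d4).trans (by norm_num))

theorem case_eight (F : Fx G) {T V : Subgroup G} (h19 : ¬ 19 ∣ Nat.card T) (hVT : V ≤ T)
    (hN : ∀ g ∈ T, ∀ v ∈ V, g * v * g⁻¹ ∈ V) (hab : ∀ a ∈ V, ∀ b ∈ V, a * b = b * a) (h2 : ∀ x ∈ V, x ^ 2 = 1)
    (hc : Nat.card V = 2 ^ 8) : BdN T := by
  obtain ⟨a, b, e1, e2, e3⟩ := aut_split hVT hN hab h2 hc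
  rw [card_GL8] at e2
  have h5 : ¬ 5 ∣ b := fun h => by
    obtain ⟨t, -, ht, h⟩ := e3 5 (by norm_num) h
    have f2 : Fact (Nat.Prime 2) := ⟨Nat.prime_two⟩
    obtain ⟨K, hK⟩ := Sylow.exists_subgroup_card_pow_prime (G := V) 2 (n := 6) (by rw [hc]; norm_num)
    refine F.no64 t ht (K.map V.subtype) ?_ ?_ ?_
    · rw [card_map_of_injective V.subtype_injective, hK]; norm_num
    · rintro _ ⟨x, -, rfl⟩
      rw [← pow_two]; exact h2 _ x.2
    · rintro _ ⟨x, -, rfl⟩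
      exact h _ x.2
  have h11 : ¬ 11 ∣ b := fun h => by
    obtain ⟨t, -, ht, h⟩ := e3 11 (by norm_num) h
    have h4 := dvd_cent h
    rw [hc, F.c11 t ht] at h4
    norm_num at h4
  have h3 : ¬ 3 ∣ b := fun h => by
    obtain ⟨t, -, ht, h⟩ := e3 3 (by norm_num) h
    have h4 := dvd_cent h
    rw [hc] at h4
    rcases F.c3 t ht with h6 | h6 <;> rw [h6] at h4 <;> norm_num at h4
  have hT0 : Nat.card T ≠ 0 := Nat.card_pos.ne'
  have hT11 : ¬ 11 ^ (0 + 1) ∣ Nat.card T := fun h => by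
    rw [e1, zero_add, pow_one] at h
    rcases (Nat.Prime.dvd_mul (by norm_num)).1 h with h | h
    · exact absurd (h.trans e2) (by norm_num)
    · exact h11 h
  have hT5 : ¬ 5 ^ (2 + 1) ∣ Nat.card T := fun h => by
    rw [e1] at h
    have h4 : 5 ^ (2 + 1) ∣ a := Nat.Coprime.dvd_of_dvd_mul_right
      (Nat.Coprime.pow_left _ ((Nat.Prime.coprime_iff_not_dvd (by norm_num)).2 h5)) h
    exact absurd (h4.trans e2) (by norm_num)
  have hT3 : ¬ 3 ^ (5 + 1) ∣ Nat.card T := fun h => by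
    rw [e1] at h
    have h4 : 3 ^ (5 + 1) ∣ a := Nat.Coprime.dvd_of_dvd_mul_right
      (Nat.Coprime.pow_left _ ((Nat.Prime.coprime_iff_not_dvd (by norm_num)).2 h3)) h
    exact absurd (h4.trans e2) (by norm_num)
  have d0 : Nat.card T ∣ (2 ^ 14 * 3 ^ 6 * 5 ^ 6 * 7 * 11) * 19 ^ 1 := by
    have := card_subgroup_dvd_card T
    rw [F.card] at this
    exact this.trans (by norm_num)
  have d1 := red (j := 0) (by norm_num : Nat.Prime 19) d0 hT0 (by simpa using h19)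
  have d2 := red (A := 2 ^ 14 * 3 ^ 6 * 5 ^ 6 * 7) (j := 0) (k := 1) (by norm_num : Nat.Prime 11) (d1.trans (by norm_num)) hT0 hT11
  have d3 := red (A := 2 ^ 14 * 3 ^ 6 * 7) (j := 2) (k := 6) (by norm_num : Nat.Prime 5) (d2.trans (by norm_num)) hT0 hT5
  have d4 := red (A := 2 ^ 14 * 5 ^ 2 * 7) (j := 5) (k := 6) (by norm_num : Nat.Prime 3) (d3.trans (by norm_num)) hT0 hT3
  by_cases h7 : 7 ∣ Nat.card T
  · exact Or.inr (Or.inr (Or.inr ⟨h7, hT3, (Nat.le_of_dvd (by norm_num) d4).trans (by norm_num)⟩))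
  · have d5 := red (A := 2 ^ 14 * 3 ^ 5 * 5 ^ 2) (j := 0) (k := 1) (by norm_num : Nat.Prime 7) (d4.trans (by norm_num)) hT0
      (by simpa using h7)
    exact Or.inl ((Nat.le_of_dvd (by norm_num) d5).trans (by norm_num))

theorem case_two (F : Fx G) {T V : Subgroup G}
    (hN : ∀ g ∈ T, ∀ v ∈ V, g * v * g⁻¹ ∈ V) (h2 : ∀ x ∈ V, x ^ 2 = 1)
    (hc : Nat.card V = 2 ^ 2) : BdN T := by
  obtain ⟨x, hx, hx1⟩ : ∃ x ∈ V, x ≠ 1 := by
    by_contra hcon
    push Not at hcon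
    have : V = ⊥ := (eq_bot_iff_forall V).2 hcon
    rw [this, card_bot] at hc
    norm_num at hc
  have hxo : orderOf x = 2 := orderOf_eq_prime (h2 x hx) hx1
  have hle := card_le_orbit hN hx hx1
  rw [hc] at hle
  have hc1 : Nat.card ↥(T ⊓ centralizer ({x} : Set G)) ∣ Nat.card (centralizer ({x} : Set G)) := card_dvd_of_le inf_le_right
  have hc2 : Nat.card ↥(T ⊓ centralizer ({x} : Set G)) ∣ Nat.card T := card_dvd_of_le inf_le_left
  set c := Nat.card ↥(T ⊓ centralizer ({x} : Set G)) with hcdef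
  have hc0 : c ≠ 0 := Nat.card_pos.ne'
  rcases F.c2 x hxo with h | h <;> rw [h] at hc1
  · by_cases h7 : 7 ∣ Nat.card T
    · have := Nat.le_of_dvd (by norm_num) hc1
      exact Or.inr (Or.inl ⟨h7, by omega⟩)
    by_cases h11 : 11 ∣ Nat.card T
    · have := Nat.le_of_dvd (by norm_num) hc1
      exact Or.inr (Or.inr (Or.inl ⟨h11, by omega⟩))
    have d1 := red (A := 2304000 * 7) (j := 0) (k := 1) (by norm_num : Nat.Prime 11) (hc1.trans (by norm_num)) hc0
      (fun h => h11 ((by simpa using h : 11 ∣ c).trans hc2))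
    have d2 := red (A := 2304000) (j := 0) (k := 1) (by norm_num : Nat.Prime 7) (d1.trans (by norm_num)) hc0
      (fun h => h7 ((by simpa using h : 7 ∣ c).trans hc2))
    have := Nat.le_of_dvd (by norm_num) d2
    exact Or.inl (by omega)
  · have := Nat.le_of_dvd (by norm_num) hc1
    exact Or.inl (by omega)

theorem case_three (F : Fx G) {T V : Subgroup G}
    (hN : ∀ g ∈ T, ∀ v ∈ V, g * v * g⁻¹ ∈ V) (h3 : ∀ x ∈ V, x ^ 3 = 1) (hne : V ≠ ⊥) : BdN T := by
  obtain ⟨x, hx, hx1⟩ : ∃ x ∈ V, x ≠ 1 := by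
    by_contra hcon
    push Not at hcon
    exact hne ((eq_bot_iff_forall V).2 hcon)
  have hxo : orderOf x = 3 := orderOf_eq_prime (h3 x hx) hx1
  have hle := card_le_orbit hN hx hx1
  obtain ⟨v, hv⟩ := card_pow Nat.prime_three h3
  have hV : Nat.card V ≤ 729 := by
    have h1 : Nat.card V ∣ 273030912000000 := by rw [← F.card]; exact card_subgroup_dvd_card V
    have h4 : ¬ 3 ^ (6 + 1) ∣ Nat.card V := fun h => absurd (h.trans h1) (by norm_num)
    rw [hv] at h4 ⊢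
    have h5 : v ≤ 6 := by
      by_contra hlt
      push Not at hlt
      exact h4 (pow_dvd_pow 3 hlt)
    exact (Nat.pow_le_pow_right (by norm_num) h5).trans (by norm_num)
  have hc1 : Nat.card ↥(T ⊓ centralizer ({x} : Set G)) ∣ Nat.card (centralizer ({x} : Set G)) := card_dvd_of_le inf_le_right
  have hc2 : Nat.card ↥(T ⊓ centralizer ({x} : Set G)) ∣ Nat.card T := card_dvd_of_le inf_le_left
  set c := Nat.card ↥(T ⊓ centralizer ({x} : Set G)) with hcdef
  have hc0 : c ≠ 0 := Nat.card_pos.ne'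
  have hle' : Nat.card T ≤ 728 * c := hle.trans (Nat.mul_le_mul_right _ (by omega))
  rcases F.c3 x hxo with h | h <;> rw [h] at hc1
  · by_cases h7 : 7 ∣ Nat.card T
    · have := Nat.le_of_dvd (by norm_num) hc1
      exact Or.inr (Or.inl ⟨h7, by omega⟩)
    have d2 := red (A := 77760) (j := 0) (k := 1) (by norm_num : Nat.Prime 7) (hc1.trans (by norm_num)) hc0
      (fun h => h7 ((by simpa using h : 7 ∣ c).trans hc2))
    have := Nat.le_of_dvd (by norm_num) d2
    exact Or.inl (by omega)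
  · have := Nat.le_of_dvd (by norm_num) hc1
    exact Or.inl (by omega)

/-- no elementary abelian Sylow 5-subgroup -/
theorem no_five (F : Fx G) {V : Subgroup G} (h5 : ∀ x ∈ V, x ^ 5 = 1) (hc : Nat.card V = 5 ^ 6) : False := by
  have f5 : Fact (Nat.Prime 5) := ⟨by norm_num⟩
  obtain ⟨g, hg⟩ := F.o25
  have hfac : (Nat.card G).factorization 5 = 6 := by
    rw [F.card, show 273030912000000 = 5 ^ 6 * 17473978368 by norm_num, Nat.factorization_mul (by norm_num) (by norm_num),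
      Finsupp.add_apply, Nat.Prime.factorization_pow (by norm_num), Finsupp.single_eq_same,
      Nat.factorization_eq_zero_of_not_dvd (by norm_num : ¬ 5 ∣ 17473978368)]
  let P : Sylow 5 G := Sylow.ofCard V (by rw [hfac, hc])
  have hz : IsPGroup 5 (zpowers g) := IsPGroup.of_card (n := 2) (by rw [Nat.card_zpowers, hg]; norm_num)
  obtain ⟨Q, hQ⟩ := hz.exists_le_sylow
  obtain ⟨h, hh⟩ := MulAction.exists_smul_eq G P Q
  have h1 : g ∈ (Q : Subgroup G) := hQ (mem_zpowers g)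
  rw [← hh, Sylow.coe_subgroup_smul, mem_pointwise_smul_iff_inv_smul_mem] at h1
  have h2 : (h⁻¹ * g * h) ^ 5 = 1 := by
    have h3 := h5 _ h1
    have h4 : (MulAut.conj h)⁻¹ • g = h⁻¹ * g * h := by
      simp
    rw [h4] at h3
    exact h3
  have h3 : g ^ 5 = 1 := by
    have h4 : (h⁻¹ * g * h) ^ 5 = h⁻¹ * g ^ 5 * h := by
      have := conj_pow (i := 5) (a := h⁻¹) (b := g)
      rwa [inv_inv] at this
    rw [h4] at h2
    have h5 : g ^ 5 = h * (h⁻¹ * g ^ 5 * h) * h⁻¹ := by group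
    rw [h5, h2]
    group
  have h4 := orderOf_dvd_of_pow_eq_one h3
  rw [hg] at h4
  norm_num at h4

theorem prime_cases {p : ℕ} (hp : p.Prime) (hd : p ∣ 273030912000000) :
    p = 2 ∨ p = 3 ∨ p = 5 ∨ p = 7 ∨ p = 11 ∨ p = 19 := by
  have hd2 : p ∣ 2 ^ 14 * (3 ^ 6 * (5 ^ 6 * (7 * (11 * 19)))) := hd.trans (dvd_of_eq (by norm_num))
  rcases hp.dvd_mul.1 hd2 with h | h
  · exact Or.inl ((Nat.prime_dvd_prime_iff_eq hp Nat.prime_two).1 (hp.dvd_of_dvd_pow h))
  rcases hp.dvd_mul.1 h with h | h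
  · exact Or.inr (Or.inl ((Nat.prime_dvd_prime_iff_eq hp Nat.prime_three).1 (hp.dvd_of_dvd_pow h)))
  rcases hp.dvd_mul.1 h with h | h
  · exact Or.inr (Or.inr (Or.inl ((Nat.prime_dvd_prime_iff_eq hp (by norm_num)).1 (hp.dvd_of_dvd_pow h))))
  rcases hp.dvd_mul.1 h with h | h
  · exact Or.inr (Or.inr (Or.inr (Or.inl ((Nat.prime_dvd_prime_iff_eq hp (by norm_num)).1 h))))
  rcases hp.dvd_mul.1 h with h | h
  · exact Or.inr (Or.inr (Or.inr (Or.inr (Or.inl ((Nat.prime_dvd_prime_iff_eq hp (by norm_num)).1 h)))))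
  · exact Or.inr (Or.inr (Or.inr (Or.inr (Or.inr ((Nat.prime_dvd_prime_iff_eq hp (by norm_num)).1 h)))))

/-- **an abelian normal subgroup** -/
theorem ab (F : Fx G) {T : Subgroup G} {q : G} (hq : q ∈ T) (h9 : orderOf q = 9) (h19 : ¬ 19 ∣ Nat.card T)
    {U : Subgroup G} (hUT : U ≤ T) (hUN : ∀ g ∈ T, ∀ v ∈ U, g * v * g⁻¹ ∈ U)
    (hUab : ∀ a ∈ U, ∀ b ∈ U, a * b = b * a) (hUne : U ≠ ⊥) : BdN T := by
  obtain ⟨p, V, hp, hVT, hN, hab, hne, hpow⟩ := exists_elem hUT hUN hUab hUne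
  obtain ⟨v, hv⟩ := card_pow hp hpow
  have hVG : Nat.card V ∣ 273030912000000 := by rw [← F.card]; exact card_subgroup_dvd_card V
  have hv0 : v ≠ 0 := by
    rintro rfl
    rw [pow_zero, card_eq_one] at hv
    exact hne hv
  have hpG : p ∣ 273030912000000 := by
    refine Dvd.dvd.trans ?_ hVG
    rw [hv]
    exact dvd_pow_self p hv0
  have hqV : ∀ x ∈ V, q * x * q⁻¹ ∈ V := fun x hx => hN q hq x hx
  have hle : ∀ k : ℕ, ¬ p ^ (k + 1) ∣ 273030912000000 → v ≤ k := by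
    intro k hk
    by_contra hlt
    push Not at hlt
    rw [hv] at hVG
    exact hk ((pow_dvd_pow p hlt).trans hVG)
  rcases prime_cases hp hpG with rfl | rfl | rfl | rfl | rfl | rfl
  · -- p = 2
    obtain ⟨c, hc1, hc2, hc3, hc4⟩ := fixed_data F h9 hp (by norm_num) hqV hv
    have hv14 := hle 14 (by norm_num)
    have hc8 : c ∣ 8 := by
      have h1 : Nat.Coprime c 3645 := by
        refine Nat.Coprime.coprime_dvd_left hc1 (Nat.Coprime.pow_left _ (by norm_num))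
      exact h1.dvd_of_dvd_mul_right (hc2.trans (by norm_num))
    have hc8' : c ≤ 8 := Nat.le_of_dvd (by norm_num) hc8
    have hv' : v = 2 ∨ v = 6 ∨ v = 8 ∨ v = 12 ∨ v = 14 := by
      interval_cases c <;> first | omega | (interval_cases v <;> simp_all)
    rcases hv' with rfl | rfl | rfl | rfl | rfl
    · exact case_two F hN hpow hv
    · exact case_six F h19 hVT hN hab hpow hv
    · exact case_eight F h19 hVT hN hab hpow hv
    · exact (F.no4096 V (by rw [hv]; norm_num) (fun x hx => by rw [← pow_two]; exact hpow x hx)).elim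
    · exact (F.no4096 V (by rw [hv]; norm_num) (fun x hx => by rw [← pow_two]; exact hpow x hx)).elim
  · exact case_three F hN hpow hne
  · -- p = 5
    obtain ⟨c, hc1, hc2, hc3, hc4⟩ := fixed_data F h9 hp (by norm_num) hqV hv
    have hv6 := hle 6 (by norm_num)
    have hc5 : c ∣ 5 := by
      have h1 : Nat.Coprime c 5832 := by
        refine Nat.Coprime.coprime_dvd_left hc1 (Nat.Coprime.pow_left _ (by norm_num))
      exact h1.dvd_of_dvd_mul_right (hc2.trans (by norm_num))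
    have hc5' : c = 1 ∨ c = 5 := (Nat.dvd_prime (by norm_num)).1 hc5
    have hc1' : c = 1 := by rcases hc5' with h | h <;> omega
    subst hc1'
    have : v = 6 := by
      interval_cases v <;> simp_all
    subst this
    exact (no_five F hpow hv).elim
  · -- p = 7
    obtain ⟨c, hc1, hc2, hc3, hc4⟩ := fixed_data F h9 hp (by norm_num) hqV hv
    have hv1 := hle 1 (by norm_num)
    have hv2 : v = 1 := by omega
    subst hv2
    rw [pow_one] at hc1 hc4
    rcases (Nat.dvd_prime hp).1 hc1 with h | h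
    · subst h; omega
    · subst h; norm_num at hc2
  · -- p = 11
    obtain ⟨c, hc1, hc2, hc3, hc4⟩ := fixed_data F h9 hp (by norm_num) hqV hv
    have hv1 := hle 1 (by norm_num)
    have hv2 : v = 1 := by omega
    subst hv2
    rw [pow_one] at hc1 hc4
    rcases (Nat.dvd_prime hp).1 hc1 with h | h
    · subst h; omega
    · subst h; norm_num at hc2
  · exact (h19 ((by rw [hv]; exact dvd_pow_self 19 hv0 : 19 ∣ Nat.card V).trans (card_dvd_of_le hVT))).elim

end G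

end Cfsg.Agent.H388.HNF
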