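import Cfsg.Agent.H388.HNF.Ab
import Cfsg.Agent.H651.HNF.Raw
import Cfsg.Agent.H143.HT.HNRank
import Cfsg.Agent.H680.S8.LW
import Cfsg.Agent.H966.Der.HN

/-!
# S4908, FROB row of HN: a subgroup with an abelian normal subgroup (helper388)
-/

set_option autoImplicit false

namespace Cfsg.Agent.H388.HNF

open Subgroup
open Cfsg.Agent.H651.HNF (Raw cn)

/-- the facts for `HN` -/
theorem fx (R : Raw Cfsg.Spor.HN) [Finite Cfsg.Spor.HN] : Fx Cfsg.Spor.HN where
  card := R.card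
  c2 u hu := by simpa only [cn] using R.r2 u hu
  c3 u hu := by simpa only [cn] using R.r3 u hu
  c7 u hu := by simpa only [cn] using R.r7 u hu
  c11 u hu := by simpa only [cn] using R.r11 u hu
  c9 u hu := by simpa only [cn] using R.r9 u hu
  o25 := Cfsg.Agent.H966.Der.HN.ord_25
  no64 _ hw E hE h2 hc := Cfsg.Agent.H680.S8.LW.no64 hw E hE h2 hc
  no4096 E hE h2 := Cfsg.Agent.H143.HT.HNRank.no4096 E hE h2

theorem BdN.bd {T : Subgroup Cfsg.Spor.HN} (h : BdN T) : Bd T := by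
  rcases h with h | h | h | h
  · exact Or.inl h
  · exact Or.inr (Or.inl h)
  · exact Or.inr (Or.inr (Or.inr (Or.inl h)))
  · exact Or.inr (Or.inr (Or.inr (Or.inr (Or.inr h))))

/-- **the abelian case** -/
theorem hAB (R : Raw Cfsg.Spor.HN) (T : Subgroup Cfsg.Spor.HN) (_ : T ≠ ⊤) (hq : ∃ q ∈ T, orderOf q = 9)
    (h19 : ¬ 19 ∣ Nat.card T) (hF : ¬ Fit T) : Bd T := by
  have : Finite Cfsg.Spor.HN := Nat.finite_of_card_ne_zero (by rw [R.card]; norm_num)
  obtain ⟨q, hq, h9⟩ := hq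
  unfold Fit at hF
  push Not at hF
  obtain ⟨V, h1, h2, h3, h4⟩ := hF
  exact (ab (fx R) hq h9 h19 h1 h2 h3 h4).bd

end Cfsg.Agent.H388.HNF
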